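import Cfsg.Agent.Lib.Helper50.CAI.Defs

set_option autoImplicit false

/-!
# [DICH] for project CAI (S2202)

With trivial core and the induction hypothesis for proper subgroups, two odd parts `Bz P`, `Bz Q`
are equal or meet trivially.
-/

namespace Cfsg.Agent.Lib.Helper85.CAI

open Cfsg.Agent.Lib.Helper50.CAI

universe u

/-- [DICH] -/
theorem pkgDich (hB : PkgBasic.{u}) (hSub : PkgSub.{u}) : PkgDich.{u} := by
  intro G _ _ hyp hcore hIH P Q
  by_cases hPQ : P = Q
  · left; rw [hPQ]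
  by_contra hcon
  rw [not_or] at hcon
  obtain ⟨hne, hex⟩ := hcon
  push_neg at hex
  obtain ⟨b, hbP, hbQ, hb1⟩ := hex
  have BP := hB hyp P
  have BQ := hB hyp Q
  have hbCP : b ∈ Cz P := ((BP.memB b).mp hbP).1
  have hbCQ : b ∈ Cz Q := ((BQ.memB b).mp hbQ).1
  have hbodd : Odd (orderOf b) := ((BP.memB b).mp hbP).2
  set Y : Subgroup G := Subgroup.centralizer ({b} : Set G) with hY
  have hYtop : Y ≠ ⊤ := by
    intro htop
    apply hb1
    apply hcore
    intro R
    have BR := hB hyp R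
    rw [BR.memB]
    refine ⟨?_, hbodd⟩
    show b ∈ Subgroup.centralizer ((R : Subgroup G) : Set G)
    rw [Subgroup.mem_centralizer_iff]
    intro h _
    have hh : h ∈ Y := by rw [htop]; exact Subgroup.mem_top h
    rw [hY, Subgroup.mem_centralizer_iff] at hh
    exact (hh b (Set.mem_singleton b)).symm
  have hCPY : Cz P ≤ Y := by
    intro x hx
    rw [hY, Subgroup.mem_centralizer_iff]
    intro h hh
    rw [Set.mem_singleton_iff] at hh
    rw [hh]
    exact BP.comm b hbCP x hx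
  have hCQY : Cz Q ≤ Y := by
    intro x hx
    rw [hY, Subgroup.mem_centralizer_iff]
    intro h hh
    rw [Set.mem_singleton_iff] at hh
    rw [hh]
    exact BQ.comm b hbCQ x hx
  have hPY : (P : Subgroup G) ≤ Y := BP.le.trans hCPY
  have hQY : (Q : Subgroup G) ≤ Y := BQ.le.trans hCQY
  obtain ⟨hypY, hdown, -⟩ := hSub hyp Y P Q hPQ hPY hQY
  obtain ⟨P', -, hP'⟩ := hdown P hPY
  obtain ⟨Q', -, hQ'⟩ := hdown Q hQY
  have hBPY : Bz P ≤ Y := fun x hx => hCPY ((BP.memB x).mp hx).1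
  have hBQY : Bz Q ≤ Y := fun x hx => hCQY ((BQ.memB x).mp hx).1
  rw [inf_eq_left.mpr hBPY] at hP'
  rw [inf_eq_left.mpr hBQY] at hQ'
  apply hne
  rw [← hP', ← hQ', hIH Y hYtop hypY P' Q']

end Cfsg.Agent.Lib.Helper85.CAI
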