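import Cfsg.Agent.Lib.Helper50.CAI.Defs

set_option autoImplicit false

/-!
# [SUB] for project CAI (S2202)

Subgroups `X` containing two Sylow 2-subgroups of `G`: `Hyp ↥X`, and the Sylow 2-subgroups of
`↥X` are the Sylow 2-subgroups of `G` inside `X`, with `Bz R' = Bz R ⊓ X`.
-/

namespace Cfsg.Agent.Lib.Helper85.CAI

open Cfsg.Agent.Lib.Helper50.CAI

universe u

/-- `Cz` of a Sylow 2-subgroup `R'` of `↥X` whose image is the Sylow 2-subgroup `R` of `G`. -/
theorem sub_mem_Cz {G : Type u} [Group G] {X : Subgroup G} (R' : Sylow 2 ↥X) (R : Sylow 2 G)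
    (h : (R' : Subgroup ↥X).map X.subtype = (R : Subgroup G)) (y : ↥X) :
    y ∈ Cz R' ↔ (y : G) ∈ Cz R := by
  unfold Cz
  rw [Subgroup.mem_centralizer_iff, Subgroup.mem_centralizer_iff]
  constructor
  · intro hy g hg
    have hg' : g ∈ (R' : Subgroup ↥X).map X.subtype := by rw [h]; exact hg
    obtain ⟨g', hg'', rfl⟩ := Subgroup.mem_map.mp hg'
    exact congrArg Subtype.val (hy g' hg'')
  · intro hy g hg
    apply Subtype.ext
    have hg' : (g : G) ∈ (R : Subgroup G) := by
      rw [← h]; exact Subgroup.mem_map_of_mem X.subtype hg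
    exact hy (g : G) hg'

/-- [SUB] -/
theorem pkgSub (hB : PkgBasic.{u}) : PkgSub.{u} := by
  intro G _ _ hyp X P Q hPQ hPX hQX
  have hcardX : ∀ R' : Sylow 2 ↥X,
      Nat.card ↥((R' : Subgroup ↥X).map X.subtype) = 2 ^ (Nat.card G).factorization 2 := by
    intro R'
    rw [Subgroup.card_subtype, Sylow.card_eq_multiplicity R']
    have h1 := Sylow.card_eq_multiplicity (P.subtype hPX)
    have h2 : Nat.card ↥((P.subtype hPX : Sylow 2 ↥X) : Subgroup ↥X)
        = Nat.card ↥(P : Subgroup G) := by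
      rw [Sylow.coe_subtype]
      exact Nat.card_congr (Subgroup.subgroupOfEquivOfLe hPX).toEquiv
    rw [← h1, h2, Sylow.card_eq_multiplicity P]
  have hypX : Hyp ↥X := by
    refine ⟨?_, ?_, ?_⟩
    · intro t ht
      have htG : orderOf (t : G) = 2 := by rw [Subgroup.orderOf_coe]; exact ht
      have hc := hyp.ca (t : G) htG
      have key : ∀ a : ↥X, a ∈ Subgroup.centralizer ({t} : Set ↥X) →
          (a : G) ∈ Subgroup.centralizer ({(t : G)} : Set G) := by
        intro a ha
        rw [Subgroup.mem_centralizer_iff] at ha ⊢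
        intro h hh
        rw [Set.mem_singleton_iff] at hh
        rw [hh]
        exact congrArg Subtype.val (ha t (Set.mem_singleton t))
      refine ⟨⟨?_⟩⟩
      rintro ⟨a, ha⟩ ⟨b, hb⟩
      apply Subtype.ext
      apply Subtype.ext
      have := (IsMulCommutative.is_comm
        (M := ↥(Subgroup.centralizer ({(t : G)} : Set G)))).comm ⟨a, key a ha⟩ ⟨b, key b hb⟩
      have h' : (a : G) * (b : G) = (b : G) * (a : G) := congrArg Subtype.val this
      exact h'
    · intro R' hcyc
      apply hyp.ncyc (Sylow.ofCard _ (hcardX R'))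
      rw [Sylow.coe_ofCard]
      exact (Subgroup.equivMapOfInjective (R' : Subgroup ↥X) X.subtype
        X.subtype_injective).isCyclic.mp hcyc
    · intro R' hn
      haveI := Sylow.unique_of_normal R' hn
      have h1 : P.subtype hPX = Q.subtype hQX := Subsingleton.elim _ _
      apply hPQ
      have h2 : ((P.subtype hPX : Sylow 2 ↥X) : Subgroup ↥X)
          = ((Q.subtype hQX : Sylow 2 ↥X) : Subgroup ↥X) := by rw [h1]
      rw [Sylow.coe_subtype, Sylow.coe_subtype] at h2
      have h3 := congrArg (Subgroup.map X.subtype) h2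
      rw [Subgroup.subgroupOf_map_subtype, Subgroup.subgroupOf_map_subtype,
        inf_eq_left.mpr hPX, inf_eq_left.mpr hQX] at h3
      exact Sylow.ext h3
  have hBz : ∀ (R' : Sylow 2 ↥X) (R : Sylow 2 G),
      (R' : Subgroup ↥X).map X.subtype = (R : Subgroup G) →
      (Bz R').map X.subtype = Bz R ⊓ X := by
    intro R' R h
    have BR := hB hyp R
    have BR' := hB hypX R'
    ext x
    rw [Subgroup.mem_map, Subgroup.mem_inf, BR.memB]
    constructor
    · rintro ⟨y, hy, rfl⟩
      rw [BR'.memB] at hy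
      refine ⟨⟨(sub_mem_Cz R' R h y).mp hy.1, ?_⟩, y.2⟩
      rw [Subgroup.coe_subtype, Subgroup.orderOf_coe]
      exact hy.2
    · rintro ⟨⟨hx1, hx2⟩, hxX⟩
      refine ⟨⟨x, hxX⟩, ?_, rfl⟩
      rw [BR'.memB]
      refine ⟨(sub_mem_Cz R' R h ⟨x, hxX⟩).mpr hx1, ?_⟩
      rw [← Subgroup.orderOf_coe]
      exact hx2
  refine ⟨hypX, ?_, ?_⟩
  · intro R hRX
    have hmap : ((R.subtype hRX : Sylow 2 ↥X) : Subgroup ↥X).map X.subtype = (R : Subgroup G) := by
      rw [Sylow.coe_subtype, Subgroup.subgroupOf_map_subtype, inf_eq_left.mpr hRX]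
    exact ⟨R.subtype hRX, hmap, hBz _ _ hmap⟩
  · intro R'
    have hmap : (R' : Subgroup ↥X).map X.subtype
        = ((Sylow.ofCard _ (hcardX R') : Sylow 2 G) : Subgroup G) := by
      rw [Sylow.coe_ofCard]
    refine ⟨Sylow.ofCard _ (hcardX R'), ?_, hmap, hBz _ _ hmap⟩
    rw [Sylow.coe_ofCard]
    exact Subgroup.map_subtype_le _

end Cfsg.Agent.Lib.Helper85.CAI
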